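import Mathlib.Algebra.Homology.ShortComplex.HomologicalComplex
import Mathlib.Algebra.Homology.HomologicalComplexAbelian
import Mathlib.CategoryTheory.Abelian.Refinements
import Mathlib.CategoryTheory.Preadditive.Injective.Basic
import Mathlib.Algebra.Homology.ShortComplex.Exact
import Mathlib.Tactic

/-!
# Extending chain maps into complexes of injectives, with a prescribed restriction along a map
-/

set_option autoImplicit false
set_option linter.style.haveILetI false
set_option backward.isDefEq.respectTransparency false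
set_option backward.isDefEq.respectTransparency.types false

universe v u

open CategoryTheory CategoryTheory.Limits

namespace Groth.Agent.InjLadder

variable {V : Type u} [Category.{v} V] [Abelian V]

/-- A map into an injective prescribed on two pieces, compatibly. -/
lemma exists_extension {A₁ A₂ X J : V} [Injective J] (a : A₁ ⟶ X) (b : A₂ ⟶ X) (h₁ : A₁ ⟶ J) (h₂ : A₂ ⟶ J)
    (hc : ∀ {T : V} (x : T ⟶ A₁) (y : T ⟶ A₂), x ≫ a = y ≫ b → x ≫ h₁ = y ≫ h₂) :
    ∃ h : X ⟶ J, a ≫ h = h₁ ∧ b ≫ h = h₂ := by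
  let S : ShortComplex V := ShortComplex.mk (kernel.ι (biprod.desc a b)) (biprod.desc a b) (kernel.condition _)
  have hS : S.Exact := ShortComplex.exact_of_f_is_kernel _ (kernelIsKernel _)
  have h0 : S.f ≫ biprod.desc h₁ h₂ = 0 := by
    have hk : (S.f ≫ biprod.fst) ≫ a + (S.f ≫ biprod.snd) ≫ b = 0 := by
      rw [Category.assoc, Category.assoc, ← Preadditive.comp_add, ← biprod.desc_eq]
      exact S.zero
    rw [← eq_neg_iff_add_eq_zero, ← Preadditive.neg_comp] at hk
    have := hc _ _ hk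
    rw [Preadditive.neg_comp, eq_neg_iff_add_eq_zero, Category.assoc, Category.assoc, ← Preadditive.comp_add,
      ← biprod.desc_eq] at this
    exact this
  refine ⟨hS.descToInjective (biprod.desc h₁ h₂) h0, ?_, ?_⟩
  · have := biprod.inl ≫= hS.comp_descToInjective (biprod.desc h₁ h₂) h0
    simpa [S] using this
  · have := biprod.inr ≫= hS.comp_descToInjective (biprod.desc h₁ h₂) h0
    simpa [S] using this

variable (D C I : CochainComplex V ℕ) (α : D ⟶ C) (β : D ⟶ I)

/-- A cycle in positive degree of a complex exact there is a boundary, up to refinements. -/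
lemma boundary {K : CochainComplex V ℕ} (hK : ∀ n, 0 < n → K.ExactAt n) (n : ℕ) {T : V} (x : T ⟶ K.X (n + 1))
    (hx : x ≫ K.d (n + 1) (n + 2) = 0) :
    ∃ (T' : V) (π : T' ⟶ T) (_ : Epi π) (v : T' ⟶ K.X n), π ≫ x = v ≫ K.d n (n + 1) :=
  (ShortComplex.exact_iff_exact_up_to_refinements _).1
    ((HomologicalComplex.exactAt_iff' K n (n + 1) (n + 2) (by simp) (by simp)).1 (hK (n + 1) (Nat.succ_pos n))) x hx

/-- The map on `0`th homology read on cycles. -/
noncomputable def cyclesMap₀ (g : C.homology 0 ⟶ I.homology 0) : C.cycles 0 ⟶ I.cycles 0 :=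
  C.homologyπ 0 ≫ g ≫ inv (I.homologyπ 0)

variable (adj : ∀ (n : ℕ) {T : V} (x : T ⟶ D.X n), x ≫ α.f n ≫ C.d n (n + 1) = 0 →
    ∃ (T' : V) (π : T' ⟶ T) (_ : Epi π) (u : T' ⟶ D.X n), u ≫ α.f n = 0 ∧ u ≫ β.f n = 0 ∧
      (π ≫ x - u) ≫ D.d n (n + 1) = 0)
  (hD : ∀ n, 0 < n → D.ExactAt n) (hC : ∀ n, 0 < n → C.ExactAt n) [∀ n, Injective (I.X n)]

/-- Compatibility at one degree. -/
def Good (n : ℕ) (f : C.X n ⟶ I.X n) : Prop :=
  α.f n ≫ f = β.f n ∧ ∀ {T : V} (c : T ⟶ C.X n), c ≫ C.d n (n + 1) = 0 → c ≫ f ≫ I.d n (n + 1) = 0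

include adj in
lemma exists_zero (g : C.homology 0 ⟶ I.homology 0)
    (hg : HomologicalComplex.homologyMap α 0 ≫ g = HomologicalComplex.homologyMap β 0) :
    ∃ f : C.X 0 ⟶ I.X 0, Good D C I α β 0 f ∧ C.iCycles 0 ≫ f = cyclesMap₀ C I g ≫ I.iCycles 0 := by
  obtain ⟨f, h1, h2⟩ := exists_extension (α.f 0) (C.iCycles 0) (β.f 0) (cyclesMap₀ C I g ≫ I.iCycles 0)
    (fun {T} x z hxz => by
      obtain ⟨T', π, hπ, u, hu1, hu2, hu3⟩ := adj 0 x (by rw [← Category.assoc, hxz, Category.assoc]; simp)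
      obtain ⟨x'', hx''⟩ : ∃ x'' : T' ⟶ D.cycles 0, x'' ≫ D.iCycles 0 = π ≫ x - u :=
        ⟨D.liftCycles (π ≫ x - u) 1 (by simp) hu3, by simp⟩
      have hz : π ≫ z = x'' ≫ HomologicalComplex.cyclesMap α 0 := by
        rw [← cancel_mono (C.iCycles 0)]
        rw [Category.assoc x'', HomologicalComplex.cyclesMap_i, ← Category.assoc x'', hx'']
        simp [hu1, hxz]
      rw [← cancel_epi π, ← Category.assoc π z, hz]
      have key : HomologicalComplex.cyclesMap α 0 ≫ cyclesMap₀ C I g = HomologicalComplex.cyclesMap β 0 := by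
        rw [← cancel_mono (I.homologyπ 0)]
        simp only [cyclesMap₀, Category.assoc, IsIso.inv_hom_id, Category.comp_id]
        rw [← reassoc_of% (HomologicalComplex.homologyπ_naturality α 0), hg, HomologicalComplex.homologyπ_naturality]
      rw [Category.assoc x'', reassoc_of% key, HomologicalComplex.cyclesMap_i, ← Category.assoc x'', hx'']
      simp [hu2])
  refine ⟨f, ⟨h1, fun {T} c hc => ?_⟩, h2⟩
  have e : c = C.liftCycles c 1 (by simp) hc ≫ C.iCycles 0 := by simp
  rw [e, Category.assoc, reassoc_of% h2]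
  simp

include adj hD hC in
lemma exists_succ (n : ℕ) (f : C.X n ⟶ I.X n) (hf : Good D C I α β n f) :
    ∃ f' : C.X (n + 1) ⟶ I.X (n + 1), Good D C I α β (n + 1) f' ∧ C.d n (n + 1) ≫ f' = f ≫ I.d n (n + 1) := by
  obtain ⟨f', h1, h2⟩ := exists_extension (α.f (n + 1)) (C.d n (n + 1)) (β.f (n + 1)) (f ≫ I.d n (n + 1))
    (fun {T} x y hxy => by
      obtain ⟨T', π, hπ, u, hu1, hu2, hu3⟩ := adj (n + 1) x (by rw [← Category.assoc, hxy, Category.assoc]; simp)
      obtain ⟨T'', π', hπ', v, hv⟩ := boundary hD n (π ≫ x - u) hu3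
      haveI := hπ
      haveI := hπ'
      rw [← cancel_epi (π' ≫ π)]
      have h3 : (π' ≫ π ≫ y - v ≫ α.f n) ≫ C.d n (n + 1) = 0 := by
        rw [Preadditive.sub_comp, Category.assoc v, α.comm, ← Category.assoc v, ← hv]
        simp [hu1, hxy]
      have h4 := hf.2 _ h3
      rw [Preadditive.sub_comp, sub_eq_zero] at h4
      simp only [Category.assoc] at h4 ⊢
      rw [h4, reassoc_of% hf.1, β.comm, ← Category.assoc v, ← hv]
      simp [hu2])
  refine ⟨f', ⟨h1, fun {T} c hc => ?_⟩, h2⟩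
  obtain ⟨T', π, hπ, v, hv⟩ := boundary hC n c hc
  rw [← cancel_epi π, reassoc_of% hv, reassoc_of% h2]
  simp

include adj hD hC in
/-- Chain maps into injectives prescribed along `α` and on `H⁰`. -/
theorem exists_hom (g : C.homology 0 ⟶ I.homology 0)
    (hg : HomologicalComplex.homologyMap α 0 ≫ g = HomologicalComplex.homologyMap β 0) :
    ∃ f : C ⟶ I, α ≫ f = β ∧ HomologicalComplex.homologyMap f 0 = g := by
  choose s hs hd using exists_succ D C I α β adj hD hC
  obtain ⟨f₀, hf₀, hf₀'⟩ := exists_zero D C I α β adj g hg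
  let F : ∀ n, { f : C.X n ⟶ I.X n // Good D C I α β n f } :=
    fun n => Nat.rec ⟨f₀, hf₀⟩ (fun n p => ⟨s n p.1 p.2, hs n p.1 p.2⟩) n
  let φ : C ⟶ I :=
    { f := fun n => (F n).1
      comm' := fun i j hij => by
        obtain rfl : i + 1 = j := hij
        exact (hd i (F i).1 (F i).2).symm }
  refine ⟨φ, HomologicalComplex.hom_ext _ _ fun n => (F n).2.1, ?_⟩
  rw [← cancel_epi (C.homologyπ 0), HomologicalComplex.homologyπ_naturality]
  have : HomologicalComplex.cyclesMap φ 0 = cyclesMap₀ C I g := by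
    rw [← cancel_mono (I.iCycles 0), HomologicalComplex.cyclesMap_i]
    exact hf₀'
  simp [this, cyclesMap₀]

section Ladder

variable {C' C'' I' I'' : CochainComplex V ℕ} {C I : CochainComplex V ℕ}

/-- Ladders of `H⁰`-maps between left exact sequences extend to chain maps. -/
theorem exists_ladder (jC : C' ⟶ C) (πC : C ⟶ C'') (jI : I' ⟶ I) (πI : I ⟶ I'')
    (mC : ∀ n, Mono (jC.f n)) (wC : ∀ n, jC.f n ≫ πC.f n = 0)
    (exC : ∀ n, (ShortComplex.mk (jC.f n) (πC.f n) (wC n)).Exact) (wI : ∀ n, jI.f n ≫ πI.f n = 0)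
    (hC' : ∀ n, 0 < n → C'.ExactAt n) (hC : ∀ n, 0 < n → C.ExactAt n) (hC'' : ∀ n, 0 < n → C''.ExactAt n)
    [∀ n, Injective (I'.X n)] [∀ n, Injective (I.X n)] [∀ n, Injective (I''.X n)]
    (g' : C'.homology 0 ⟶ I'.homology 0) (g : C.homology 0 ⟶ I.homology 0)
    (g'' : C''.homology 0 ⟶ I''.homology 0)
    (hg1 : HomologicalComplex.homologyMap jC 0 ≫ g = g' ≫ HomologicalComplex.homologyMap jI 0)
    (hg2 : HomologicalComplex.homologyMap πC 0 ≫ g'' = g ≫ HomologicalComplex.homologyMap πI 0) :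
    ∃ (f' : C' ⟶ I') (f : C ⟶ I) (f'' : C'' ⟶ I''),
      jC ≫ f = f' ≫ jI ∧ πC ≫ f'' = f ≫ πI ∧
      HomologicalComplex.homologyMap f' 0 = g' ∧ HomologicalComplex.homologyMap f 0 = g ∧
      HomologicalComplex.homologyMap f'' 0 = g'' := by
  obtain ⟨f', -, hf'⟩ := exists_hom C' C' I' 0 0
    (fun n T x _ => ⟨T, 𝟙 T, inferInstance, x, by simp, by simp, by simp⟩) hC' hC' g'
    (by simp [HomologicalComplex.homologyMap_zero])
  obtain ⟨f, hf1, hf⟩ := exists_hom C' C I jC (f' ≫ jI)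
    (fun n T x hx => ⟨T, 𝟙 T, inferInstance, 0, by simp, by simp, by
      haveI := mC (n + 1)
      rw [← cancel_mono (jC.f (n + 1))]
      simpa using hx⟩) hC' hC g
    (by rw [hg1, HomologicalComplex.homologyMap_comp, hf'])
  obtain ⟨f'', hf2, hf''⟩ := exists_hom C C'' I'' πC (f ≫ πI)
    (fun n T x hx => by
      obtain ⟨T₁, π₁, hπ₁, w, hw⟩ := (ShortComplex.exact_iff_exact_up_to_refinements _).1 (exC (n + 1))
        (x ≫ C.d n (n + 1)) (by simpa using hx)
      haveI := mC (n + 2)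
      have hw' : w ≫ C'.d (n + 1) (n + 2) = 0 := by
        dsimp at hw
        rw [← cancel_mono (jC.f (n + 2)), Category.assoc, ← jC.comm, ← Category.assoc, ← hw]
        simp
      obtain ⟨T₂, π₂, hπ₂, v, hv⟩ := boundary hC' n w hw'
      haveI := hπ₁
      haveI := hπ₂
      refine ⟨T₂, π₂ ≫ π₁, epi_comp _ _, v ≫ jC.f n, by simp [wC], ?_, ?_⟩
      · have e : jC.f n ≫ f.f n = f'.f n ≫ jI.f n := congrArg (fun t : C' ⟶ I => t.f n) hf1
        simp [reassoc_of% e, wI]
      · dsimp at hw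
        rw [Preadditive.sub_comp, Category.assoc v, jC.comm, ← Category.assoc v, ← hv]
        simp only [Category.assoc]
        rw [hw, sub_self]) hC hC'' g''
    (by rw [hg2, HomologicalComplex.homologyMap_comp, hf])
  exact ⟨f', f, f'', hf1, hf2, hf', hf, hf''⟩

end Ladder

end Groth.Agent.InjLadder
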